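import Cfsg.Agent.Mrg.Omega.NTwo.Core
import Cfsg.Agent.Mrg.Omega.S5.Syl
import Cfsg.Agent.Mrg.Omega.S5.Pair

-- merged: Cfsg.Agent.Mrg.Omega.NTwo.Kill
section

/-!
# `S₅` on `O₄⁻(2)`, `n` 2-central, a transvection with centre `n`: impossible (bb OMEGA 14663, helper556)

Standard position `Std S P p` (`n = p 0 p 1`, `a = p 2 p 3`, `s = p 4`), `n` 2-central, `t ∈ C(n)` inducing the
transposition `(0 1)` and `[O₂(C(n)), t] ≤ ⟨n⟩`: contradiction (`kill`).  So the exits of `NTwo` never occur: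
* `false_of` : the hypotheses of `exit` are contradictory;
* `false_nat`, `false_tt` : there is no mutual pair `V_P`, `(V_{P₂})^x` with `V_P` of type `S₅` and `|V_{P₂}| = 4`,
  and no mutual pair of type T-T with 2-central `n`.
-/

set_option autoImplicit false

namespace Cfsg.Agent.Omega.NTwo

open Subgroup Cfsg Cfsg.Agent.ZN Cfsg.Agent.MinSimple.VModule Pointwise
open Cfsg.Agent.MinSimple.MinParabolic Cfsg.Agent.MinSimple.Basic
open Cfsg.Agent.Omega.MinPar (IsPar IsParS IsLoc NonLoc isLoc_of_le_normalizer)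
open Cfsg.Agent.Omega.S5.Mod (le_o2_of_comm)
open scoped commutatorElement

universe u

variable {G : Type u} [Group G]

/-- conjugation of `O₂(C(x))` -/
theorem o2_cent_conj [Finite G] {g x y q : G} (e : g * x * g⁻¹ = y) (hq : q ∈ o2 (centralizer ({x} : Set G))) :
    g * q * g⁻¹ ∈ o2 (centralizer ({y} : Set G)) := by
  rw [← e, ← S5.TT.o2_conj, ChoiceBase.mem_cj]
  have h1 : g⁻¹ * (g * q * g⁻¹) * g = q := by group
  rwa [h1]

theorem o2_cent_conj' [Finite G] {g x y q : G} (e : g * x * g⁻¹ = y) (hq : q ∈ o2 (centralizer ({y} : Set G))) :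
    g⁻¹ * q * g ∈ o2 (centralizer ({x} : Set G)) := by
  have h1 : g⁻¹ * y * g⁻¹⁻¹ = x := by rw [← e]; group
  have h2 := o2_cent_conj h1 hq
  rwa [inv_inv] at h2

/-- `x² = 1`, `[x, O₂(C(z))] = 1`, `x ∈ C(z)` : `x ∈ Ω₁Z(O₂(C(z)))` -/
theorem mem_zc_of [Finite G] (hG : IsCharacteristicTwoType G) {z x : G} (hz : z * z = 1) (hz1 : z ≠ 1)
    (hx : x * x = 1) (hxz : x * z * x⁻¹ = z) (h : ∀ q ∈ o2 (centralizer ({z} : Set G)), q * x * q⁻¹ = x) :
    x ∈ zc (o2 (centralizer ({z} : Set G))) := by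
  have h1 : x ∈ o2 (centralizer ({z} : Set G)) :=
    char2_centralizer hG (by rw [sq]; exact hz) hz1 (mem_inf.2 ⟨mem_cent.2 hxz,
      mem_centralizer_iff.2 fun q hq => comm_iff.1 (h q hq)⟩)
  exact mem_zc.2 ⟨h1, fun b hb => comm_iff.1 (h b hb), by rw [sq]; exact hx⟩

theorem norm_zc_cent [Finite G] {z g x : G} (hg : g * z * g⁻¹ = z) (hx : x ∈ zc (o2 (centralizer ({z} : Set G)))) :
    g * x * g⁻¹ ∈ zc (o2 (centralizer ({z} : Set G))) :=
  (mem_normalizer_iff.1 (normalizer_le_normalizer_zc _ (le_normalizer_o2 _ (mem_cent.2 hg))) x).1 hx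

theorem norm_cent (H : Subgroup G) :
    normalizer (H : Set G) ≤ normalizer (centralizer (H : Set G) : Set G) := by
  have key : ∀ g ∈ normalizer (H : Set G), ∀ x ∈ centralizer (H : Set G),
      g * x * g⁻¹ ∈ centralizer (H : Set G) := by
    intro g hg x hx
    refine mem_centralizer_iff.2 fun h hh => ?_
    have h1 : g⁻¹ * h * g ∈ H := by
      have := (mem_normalizer_iff.1 (inv_mem hg) h).1 hh
      rwa [inv_inv] at this
    have h2 := mem_centralizer_iff.1 hx _ h1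
    calc h * (g * x * g⁻¹) = g * ((g⁻¹ * h * g) * x) * g⁻¹ := by group
      _ = g * (x * (g⁻¹ * h * g)) * g⁻¹ := by rw [h2]
      _ = g * x * g⁻¹ * h := by group
  intro g hg
  refine mem_normalizer_iff.2 fun x => ⟨key g hg x, fun hx => ?_⟩
  have h1 := key g⁻¹ (inv_mem hg) _ hx
  have h2 : g⁻¹ * (g * x * g⁻¹) * g⁻¹⁻¹ = x := by group
  rwa [h2] at h1

section

variable [Finite G] (hG : IsCharacteristicTwoType G) (S : Sylow 2 G) {P : Subgroup G} {p : Fin 5 → G}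
  (h : Std (S : Subgroup G) P p)

include h in
/-- an element swapping `a` and `s` -/
theorem exists_t1 (T₀ : Sylow 2 G) (hT₀ : ∀ x ∈ (T₀ : Subgroup G), x * nn p * x⁻¹ = nn p) :
    ∃ T₁ : Sylow 2 G, Std.T (S : Subgroup G) p ≤ T₁ ∧ (T₁ : Subgroup G) ≤ centralizer ({nn p} : Set G) ∧
      (T₁ : Subgroup G) ≤ normalizer (Std.T (S : Subgroup G) p : Set G) ∧
      (∀ x ∈ (T₁ : Subgroup G), ∀ y ∈ (T₁ : Subgroup G), x ∉ Std.T (S : Subgroup G) p →
        y ∉ Std.T (S : Subgroup G) p → x⁻¹ * y ∈ Std.T (S : Subgroup G) p) ∧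
      ∃ r ∈ (T₁ : Subgroup G), r * p 4 * r⁻¹ = aa p ∧ r * aa p * r⁻¹ = p 4 := by
  have hp2 : Fact (Nat.Prime 2) := ⟨Nat.prime_two⟩
  have hTn : Std.T (S : Subgroup G) p ≤ centralizer ({nn p} : Set G) := inf_le_right
  have hT2 : IsPGroup 2 (Std.T (S : Subgroup G) p) := S.isPGroup'.to_le Std.T_le
  obtain ⟨T₁, hTT₁, hT₁⟩ := exists_conj_le T₀ (fun x hx => mem_cent.2 (hT₀ x hx)) hT2 hTn
  have hcard : Nat.card (T₁ : Subgroup G) = 2 * Nat.card (Std.T (S : Subgroup G) p) := by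
    rw [← h.card_S]
    exact Nat.card_congr (Sylow.equiv T₁ S).toEquiv
  have hidx : ((Std.T (S : Subgroup G) p).subgroupOf (T₁ : Subgroup G)).index = 2 := by
    have e : Nat.card ((Std.T (S : Subgroup G) p).subgroupOf (T₁ : Subgroup G)) = Nat.card (Std.T (S : Subgroup G) p) :=
      Nat.card_congr (subgroupOfEquivOfLe hTT₁).toEquiv
    have h1 := card_mul_index ((Std.T (S : Subgroup G) p).subgroupOf (T₁ : Subgroup G))
    rw [e, hcard] at h1
    have h3 : 0 < Nat.card (Std.T (S : Subgroup G) p) := Nat.card_pos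
    rw [mul_comm] at h1
    exact Nat.eq_of_mul_eq_mul_right h3 h1
  have hT₁n : (T₁ : Subgroup G) ≤ normalizer (Std.T (S : Subgroup G) p : Set G) :=
    (normal_subgroupOf_iff_le_normalizer hTT₁).1 (normal_of_index_eq_two hidx)
  refine ⟨T₁, hTT₁, hT₁, hT₁n, ?_, ?_⟩
  · intro x hx y hy hxT hyT
    have h3 := mul_mem_iff_of_index_two hidx (a := (⟨x, hx⟩ : (T₁ : Subgroup G))⁻¹) (b := ⟨y, hy⟩)
    rw [inv_mem_iff] at h3
    have h4 := h3.mpr (iff_of_false (fun h => hxT (mem_subgroupOf.mp h)) (fun h => hyT (mem_subgroupOf.mp h)))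
    exact mem_subgroupOf.mp h4
  · have h1 := not_cent S h T₁ hTT₁ hT₁
    push Not at h1
    obtain ⟨r, hr, hr4⟩ := h1
    have hs : p 4 ∈ zc (Std.T (S : Subgroup G) p) := h.mem_zcT.2 (Or.inr (Or.inr (Or.inr rfl)))
    have hrn : r * nn p * r⁻¹ = nn p := mem_cent.1 (hT₁ hr)
    have h2 := (mem_normalizer_iff.1 (normalizer_le_normalizer_zc _ (hT₁n hr)) _).1 hs
    have h3 : r * p 4 * r⁻¹ = aa p := by
      rcases h.mem_zcT.1 h2 with h3 | h3 | h3 | h3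
      · exact absurd (conj_inj (g := r) (by rw [h3]; group)) (h.ne 4)
      · exact absurd (conj_inj (g := r) (hrn.trans h3.symm)) h.n_ne_four
      · exact h3
      · exact absurd h3 hr4
    refine ⟨r, hr, h3, ?_⟩
    rw [h.a_eq, cm, hrn, h3, h.na]

include hG h

/-- `O₂(C(n)) ≤ T` -/
theorem Qn_le_T (T₀ : Sylow 2 G) (hT₀ : ∀ x ∈ (T₀ : Subgroup G), x * nn p * x⁻¹ = nn p) :
    o2 (centralizer ({nn p} : Set G)) ≤ Std.T (S : Subgroup G) p := by
  obtain ⟨T₁, hTT₁, hT₁, hT₁n, hdiff, -⟩ := exists_t1 S h T₀ hT₀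
  intro q hq
  obtain ⟨hqa, -⟩ := half_five hG S h q hq
  have hqn : q * nn p * q⁻¹ = nn p := mem_cent.1 (o2_le _ hq)
  have hq4 : q * p 4 * q⁻¹ = p 4 := by
    rw [← h.na, cm, hqn]
    change nn p * (q * (p 2 * p 3) * q⁻¹) = _
    rw [hqa]
  have hqT₁ : q ∈ (T₁ : Subgroup G) := o2_le_of_sylow T₁.isPGroup' (not_dvd_relIndex T₁ hT₁) hq
  by_contra hqT
  refine not_cent S h T₁ hTT₁ hT₁ fun x hx => ?_
  by_cases hxT : x ∈ Std.T (S : Subgroup G) p
  · exact h.fix x (Std.T_le hxT)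
  · have h6 := h.fix _ (Std.T_le (hdiff q hqT₁ x hx hqT hxT))
    calc x * p 4 * x⁻¹ = q * ((q⁻¹ * x) * p 4 * (q⁻¹ * x)⁻¹) * q⁻¹ := by group
      _ = p 4 := by rw [h6, hq4]

omit hG in
/-- elements of `T` act on `p 2` -/
theorem T_two {τ : G} (hτ : τ ∈ Std.T (S : Subgroup G) p) : τ * p 2 * τ⁻¹ = p 2 ∨ τ * p 2 * τ⁻¹ = p 3 := by
  obtain ⟨σ, hσ⟩ := h.perm τ (h.le (Std.T_le hτ))
  have h1 := h.T_a hτ
  rw [aa, cm, hσ, hσ] at h1
  rcases h.pair_inj (fun e => absurd (σ.injective e) (by decide)) (by decide) h1 with ⟨e, -⟩ | ⟨e, -⟩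
  · left; rw [hσ, e]
  · right; rw [hσ, e]

theorem kill (T₀ : Sylow 2 G) (hT₀ : ∀ x ∈ (T₀ : Subgroup G), x * nn p * x⁻¹ = nn p) {t : G}
    (ht0 : t * p 0 * t⁻¹ = p 1) (htn : t * nn p * t⁻¹ = nn p)
    (htQ : ∀ q ∈ o2 (centralizer ({nn p} : Set G)), t * q * t⁻¹ = q ∨ t * q * t⁻¹ = nn p * q) : False := by
  have hp2 : Fact (Nat.Prime 2) := ⟨Nat.prime_two⟩
  obtain ⟨T₁, hTT₁, hT₁, hT₁n, -, r, hr, hr4, hra⟩ := exists_t1 S h T₀ hT₀
  have hQT := Qn_le_T hG S h T₀ hT₀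
  have hrn : r * nn p * r⁻¹ = nn p := mem_cent.1 (hT₁ hr)
  have hnn : nn p * nn p = 1 := h.nsq
  have hn1 : nn p ≠ 1 := h.n_ne_one
  have ninv : (nn p)⁻¹ = nn p := inv_eq_of_mul_eq_one_left hnn
  -- `t ∈ Q_n`
  have htQn : t ∈ o2 (centralizer ({nn p} : Set G)) := by
    refine le_o2_of_comm hG (by rw [sq]; exact hnn) hn1 (comm_iff.1 htn) fun q hq => ?_
    rcases htQ q hq with h1 | h1
    · left; rw [h1]; group
    · right; rw [h1]; group
  -- the action of `t`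
  obtain ⟨hta, htb⟩ := half_five hG S h t htQn
  have ht4 : t * p 4 * t⁻¹ = p 4 := by
    rw [← h.na, cm, htn]
    change nn p * (t * (p 2 * p 3) * t⁻¹) = _
    rw [hta]
  have ht1 : t * p 1 * t⁻¹ = p 0 := by
    have e : p 1 = p 0 * nn p := by rw [nn, ← mul_assoc, h.sq, one_mul]
    rw [e, cm, ht0, htn, nn, h.comm 0 1, ← mul_assoc, h.sq, one_mul]
  -- the element `τ`, `w = τ t τ⁻¹`
  obtain ⟨τ, hτ, hτn⟩ := h.tau
  have hτn : τ * nn p * τ⁻¹ = aa p := hτn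
  have hτa : τ * aa p * τ⁻¹ = nn p := h.s_eq_conj hτ hτn
  have hτ4 : τ * p 4 * τ⁻¹ = p 4 := h.fix τ hτ
  obtain ⟨σ, hσ⟩ := h.perm τ (h.le hτ)
  have hσ01 : (σ 0 = 2 ∧ σ 1 = 3) ∨ (σ 0 = 3 ∧ σ 1 = 2) := by
    have h1 := hτn
    rw [nn, aa, cm, hσ, hσ] at h1
    exact h.pair_inj (fun e => absurd (σ.injective e) (by decide)) (by decide) h1
  obtain ⟨w, hw⟩ : ∃ w, w = τ * t * τ⁻¹ := ⟨_, rfl⟩
  have hw0 : w * p (σ 0) * w⁻¹ = p (σ 1) := by
    rw [← hσ, ← hσ, hw]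
    calc τ * t * τ⁻¹ * (τ * p 0 * τ⁻¹) * (τ * t * τ⁻¹)⁻¹ = τ * (t * p 0 * t⁻¹) * τ⁻¹ := by group
      _ = τ * p 1 * τ⁻¹ := by rw [ht0]
  have hw1 : w * p (σ 1) * w⁻¹ = p (σ 0) := by
    rw [← hσ, ← hσ, hw]
    calc τ * t * τ⁻¹ * (τ * p 1 * τ⁻¹) * (τ * t * τ⁻¹)⁻¹ = τ * (t * p 1 * t⁻¹) * τ⁻¹ := by group
      _ = τ * p 0 * τ⁻¹ := by rw [ht1]
  have hw23 : w * p 2 * w⁻¹ = p 3 ∧ w * p 3 * w⁻¹ = p 2 := by
    rcases hσ01 with ⟨e0, e1⟩ | ⟨e0, e1⟩
    · rw [e0, e1] at hw0 hw1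
      exact ⟨hw0, hw1⟩
    · rw [e0, e1] at hw0 hw1
      exact ⟨hw1, hw0⟩
  have hwQ : w ∈ o2 (centralizer ({aa p} : Set G)) := hw ▸ o2_cent_conj hτn htQn
  have hwS : w ∈ (S : Subgroup G) := hw ▸ mul_mem (mul_mem hτ (Std.T_le (hQT htQn))) (inv_mem hτ)
  have hwc : ∀ q ∈ o2 (centralizer ({aa p} : Set G)), w * q * w⁻¹ = q ∨ w * q * w⁻¹ = aa p * q := by
    intro q hq
    have e : w * q * w⁻¹ = τ * (t * (τ⁻¹ * q * τ) * t⁻¹) * τ⁻¹ := by rw [hw]; group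
    rcases htQ _ (o2_cent_conj' hτn hq) with h1 | h1
    · left; rw [e, h1]; group
    · right; rw [e, h1, ← hτn]; group
  have hQaT : ∀ q ∈ o2 (centralizer ({aa p} : Set G)), q ∈ Std.T (S : Subgroup G) p := by
    intro q hq
    have h1 := hQT (o2_cent_conj' hτn hq)
    have h2 := (mem_normalizer_iff.1 (h.le_norm_T hτ) _).1 h1
    have e : τ * (τ⁻¹ * q * τ) * τ⁻¹ = q := by group
    rwa [e] at h2
  -- `y = r τ` maps `n` to `s`
  have hyn : (r * τ) * nn p * (r * τ)⁻¹ = p 4 := by rw [← cc, hτn, hra]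
  have hya : (r * τ) * aa p * (r * τ)⁻¹ = nn p := by rw [← cc, hτa, hrn]
  -- `Q_s` centralises `V`
  have hQS : ∀ q ∈ o2 (centralizer ({p 4} : Set G)), q ∈ (S : Subgroup G) := fun q hq =>
    o2_le_of_sylow S.isPGroup' (not_dvd_relIndex S fun x hx => mem_cent.2 (h.fix x hx)) hq
  have hQn : ∀ q ∈ o2 (centralizer ({p 4} : Set G)), q * nn p * q⁻¹ = nn p := by
    intro q hq
    have h1 := (half_five hG S h _ (o2_cent_conj' hyn hq)).1
    have h1 : (r * τ)⁻¹ * q * (r * τ) * aa p * ((r * τ)⁻¹ * q * (r * τ))⁻¹ = aa p := h1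
    calc q * nn p * q⁻¹ = (r * τ) * ((r * τ)⁻¹ * q * (r * τ) * aa p * ((r * τ)⁻¹ * q * (r * τ))⁻¹) * (r * τ)⁻¹ := by
          rw [← hya]; group
      _ = nn p := by rw [h1, hya]
  have hQpair : ∀ q ∈ o2 (centralizer ({p 4} : Set G)), ∀ σ : Equiv.Perm (Fin 5), σ 4 = 4 →
      q * (p (σ 0) * p (σ 1)) * q⁻¹ = p (σ 0) * p (σ 1) := by
    intro q hq σ hσ4
    obtain ⟨g, hg, hgi⟩ := h.full σ
    have hg4 : g * p 4 * g⁻¹ = p 4 := by rw [hgi, hσ4]
    have h1 := hQn _ (o2_cent_conj' hg4 hq)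
    have e : p (σ 0) * p (σ 1) = g * nn p * g⁻¹ := by rw [nn, cm, hgi, hgi]
    rw [e]
    calc q * (g * nn p * g⁻¹) * q⁻¹ = g * (g⁻¹ * q * g * nn p * (g⁻¹ * q * g)⁻¹) * g⁻¹ := by group
      _ = g * nn p * g⁻¹ := by rw [h1]
  have hQV : ∀ q ∈ o2 (centralizer ({p 4} : Set G)), ∀ i, q * p i * q⁻¹ = p i := by
    intro q hq
    obtain ⟨ρ, hρ⟩ := h.perm q (h.le (hQS q hq))
    have h4 : ρ 4 = 4 := h.inj (by rw [← hρ]; exact h.fix q (hQS q hq))
    have key : ∀ i j : Fin 5, i ≠ j → i ≠ 4 → j ≠ 4 → (ρ i = i ∧ ρ j = j) ∨ (ρ i = j ∧ ρ j = i) := by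
      intro i j hij hi hj
      obtain ⟨σ, e0, e1, e4⟩ : ∃ σ : Equiv.Perm (Fin 5), σ 0 = i ∧ σ 1 = j ∧ σ 4 = 4 := by
        revert i j
        decide +kernel
      have h1 := hQpair q hq σ e4
      rw [e0, e1, cm, hρ, hρ] at h1
      exact h.pair_inj (fun e => hij (ρ.injective e)) hij h1
    have h0 : ρ 0 = 0 := by
      rcases key 0 1 (by decide) (by decide) (by decide) with h1 | h1
      · exact h1.1
      · rcases key 0 2 (by decide) (by decide) (by decide) with h2 | h2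
        · exact h2.1
        · exact absurd (h1.1.symm.trans h2.1) (by decide)
    have hall : ∀ i : Fin 5, ρ i = i := by
      intro i
      by_cases hi0 : i = 0
      · rw [hi0, h0]
      by_cases hi4 : i = 4
      · rw [hi4, h4]
      rcases key 0 i (fun e => hi0 e.symm) (by decide) hi4 with h1 | h1
      · exact h1.2
      · exact absurd (h0.symm.trans h1.1) (fun e => hi0 e.symm)
    intro i
    rw [hρ, hall]
  -- `D = C_S(V)`
  obtain ⟨D, hD⟩ : ∃ D, D = (S : Subgroup G) ⊓ centralizer (Set.range p) := ⟨_, rfl⟩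
  have hDm : ∀ d, d ∈ D ↔ d ∈ (S : Subgroup G) ∧ ∀ i, d * p i * d⁻¹ = p i := by
    intro d
    rw [hD, mem_inf, mem_centralizer_iff]
    refine and_congr_right fun _ => ⟨fun h1 i => comm_iff.2 (h1 _ ⟨i, rfl⟩).symm, ?_⟩
    rintro h1 _ ⟨i, rfl⟩
    exact (comm_iff.1 (h1 i)).symm
  have hDT : ∀ d ∈ D, d ∈ Std.T (S : Subgroup G) p := by
    intro d hd
    obtain ⟨h1, h2⟩ := (hDm d).1 hd
    exact Std.mem_T.2 ⟨h1, by rw [nn, cm, h2, h2]⟩
  -- `m`, `d`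
  have hp3 : p 3 = aa p * p 2 := by rw [aa, h.comm 2 3, mul_assoc, h.sq, mul_one]
  obtain ⟨m, hm⟩ : ∃ m, m = r * p 2 * r⁻¹ := ⟨_, rfl⟩
  have hm3 : r * p 3 * r⁻¹ = p 4 * m := by rw [hp3, cm, hra, hm]
  have hTm : ∀ τ ∈ Std.T (S : Subgroup G) p, τ * m * τ⁻¹ = m ∨ τ * m * τ⁻¹ = p 4 * m := by
    intro τ hτ
    have h1 : r⁻¹ * τ * r ∈ Std.T (S : Subgroup G) p := by
      have := (mem_normalizer_iff.1 (inv_mem (hT₁n hr)) τ).1 hτ
      rwa [inv_inv] at this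
    have e : τ * m * τ⁻¹ = r * (r⁻¹ * τ * r * p 2 * (r⁻¹ * τ * r)⁻¹) * r⁻¹ := by rw [hm]; group
    rcases T_two S h h1 with h2 | h2
    · left; rw [e, h2, hm]
    · right; rw [e, h2, hm3]
  obtain ⟨d, hd⟩ : ∃ d, d = r * w * r⁻¹ := ⟨_, rfl⟩
  have hdQ : d ∈ o2 (centralizer ({p 4} : Set G)) := hd ▸ o2_cent_conj hra hwQ
  have hdD : d ∈ D := (hDm d).2 ⟨hQS d hdQ, hQV d hdQ⟩
  have hdm : d * m * d⁻¹ = p 4 * m := by
    calc d * m * d⁻¹ = r * (w * p 2 * w⁻¹) * r⁻¹ := by rw [hd, hm]; group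
      _ = p 4 * m := by rw [hw23.1, hm3]
  -- Frattini
  obtain ⟨g, hgP, hgD, hgi⟩ : ∃ g ∈ P, g ∈ normalizer (D : Set G) ∧
      ∀ i, g * p i * g⁻¹ = p ((Equiv.swap (2 : Fin 5) 3 * Equiv.swap 3 4 : Equiv.Perm (Fin 5)) i) := by
    obtain ⟨x, hx, hxi⟩ := h.full (Equiv.swap (2 : Fin 5) 3 * Equiv.swap 3 4)
    have hPn : P ≤ normalizer ((centralizer (Set.range p) : Subgroup G) : Set G) := by
      have key : ∀ g ∈ P, ∀ c ∈ centralizer (Set.range p), g * c * g⁻¹ ∈ centralizer (Set.range p) := by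
        intro g hg c hc
        rw [mem_centralizer_iff] at hc ⊢
        rintro _ ⟨i, rfl⟩
        obtain ⟨ρ, hρ⟩ := h.perm g hg
        have h1 := hc _ ⟨ρ⁻¹ i, rfl⟩
        have h2 := hρ (ρ⁻¹ i)
        rw [show ρ (ρ⁻¹ i) = i from ρ.apply_symm_apply i] at h2
        rw [← h2]
        calc g * p (ρ⁻¹ i) * g⁻¹ * (g * c * g⁻¹) = g * (p (ρ⁻¹ i) * c) * g⁻¹ := by group
          _ = g * (c * p (ρ⁻¹ i)) * g⁻¹ := by rw [h1]
          _ = g * c * g⁻¹ * (g * p (ρ⁻¹ i) * g⁻¹) := by group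
      intro g hg
      rw [mem_normalizer_iff]
      refine fun c => ⟨key g hg c, fun hc => ?_⟩
      have h1 := key g⁻¹ (inv_mem hg) _ hc
      have e : g⁻¹ * (g * c * g⁻¹) * g⁻¹⁻¹ = c := by group
      rwa [e] at h1
    have hF := Cfsg.Agent.MinSimple.Basic.frattini h.le S.isPGroup' (not_dvd_relIndex S h.le) hPn hx
    have hF : x ∈ ((centralizer (Set.range p) ⊔
        (P ⊓ normalizer (((S : Subgroup G) ⊓ centralizer (Set.range p) : Subgroup G) : Set G)) : Subgroup G) : Set G) :=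
      hF
    rw [coe_mul_of_right_le_normalizer_left _ _ (inf_le_left.trans hPn)] at hF
    obtain ⟨l, hl, g, hg, hxg⟩ := hF
    replace hxg : x = l * g := hxg.symm
    refine ⟨g, hg.1, hD ▸ hg.2, fun i => ?_⟩
    rw [← hxi, hxg]
    have h1 := mem_centralizer_iff.1 hl
    obtain ⟨ρ, hρ⟩ := h.perm g hg.1
    have h2 : l * (g * p i * g⁻¹) * l⁻¹ = g * p i * g⁻¹ := by
      rw [hρ, comm_iff]
      exact (h1 _ ⟨_, rfl⟩).symm
    calc g * p i * g⁻¹ = l * (g * p i * g⁻¹) * l⁻¹ := h2.symm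
      _ = l * g * p i * (l * g)⁻¹ := by group
  have e0 : (Equiv.swap (2 : Fin 5) 3 * Equiv.swap 3 4 : Equiv.Perm (Fin 5)) 0 = 0 := by decide
  have e1 : (Equiv.swap (2 : Fin 5) 3 * Equiv.swap 3 4 : Equiv.Perm (Fin 5)) 1 = 1 := by decide
  have e4 : (Equiv.swap (2 : Fin 5) 3 * Equiv.swap 3 4 : Equiv.Perm (Fin 5)) 4 = 2 := by decide
  have hg4 : g * p 4 * g⁻¹ = p 2 := by rw [hgi, e4]
  have hgn : g * nn p * g⁻¹ = nn p := by rw [nn, cm, hgi, hgi, e0, e1]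
  -- `μ = g m g⁻¹ ∈ Ω₁Z(Q_n)`
  have ha4 : aa p * p 4 = nn p := by rw [← h.an, ← mul_assoc, h.asq, one_mul]
  have hp2n : p 2 = nn p * (p 3 * p 4) := by
    have h1 : p 2 * (p 3 * p 4) = nn p := by rw [← mul_assoc]; exact ha4
    have h2 : (p 3 * p 4) * (p 3 * p 4) = 1 := by
      rw [mul_assoc, ← mul_assoc (p 4), h.comm 4 3, mul_assoc (p 3), h.sq, mul_one, h.sq]
    rw [← h1, mul_assoc, h2, mul_one]
  have hp2c : ∀ q ∈ o2 (centralizer ({nn p} : Set G)), q * p 2 * q⁻¹ = p 2 := by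
    intro q hq
    rw [hp2n, cm, (half_five hG S h q hq).2, mem_cent.1 (o2_le _ hq)]
  have hp2n' : p 2 * nn p * (p 2)⁻¹ = nn p := by
    rw [comm_iff, nn, ← mul_assoc, h.comm 2 0, mul_assoc, h.comm 2 1, mul_assoc]
  have hmz : m ∈ zc (o2 (centralizer ({nn p} : Set G))) :=
    hm ▸ norm_zc_cent hrn (mem_zc_of hG hnn hn1 (h.sq 2) hp2n' hp2c)
  obtain ⟨μ, hμ⟩ : ∃ μ, μ = g * m * g⁻¹ := ⟨_, rfl⟩
  have hμz : μ ∈ zc (o2 (centralizer ({nn p} : Set G))) := hμ ▸ norm_zc_cent hgn hmz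
  -- `D` acts on `μ` with centre `p 2`
  have hDμ : ∀ x ∈ D, x * μ * x⁻¹ = μ ∨ x * μ * x⁻¹ = p 2 * μ := by
    intro x hx
    have h1 : g⁻¹ * x * g ∈ D := by
      have := (mem_normalizer_iff.1 (inv_mem hgD) x).1 hx
      rwa [inv_inv] at this
    have e : x * μ * x⁻¹ = g * (g⁻¹ * x * g * m * (g⁻¹ * x * g)⁻¹) * g⁻¹ := by rw [hμ]; group
    rcases hTm _ (hDT _ h1) with h2 | h2
    · left; rw [e, h2, hμ]
    · right; rw [e, h2, cm, hg4, hμ]
  -- `d' = g d g⁻¹` moves `μ`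
  have hd'D : g * d * g⁻¹ ∈ D := (mem_normalizer_iff.1 hgD d).1 hdD
  have hd'μ : g * d * g⁻¹ * μ * (g * d * g⁻¹)⁻¹ = p 2 * μ := by
    calc g * d * g⁻¹ * μ * (g * d * g⁻¹)⁻¹ = g * (d * m * d⁻¹) * g⁻¹ := by rw [hμ]; group
      _ = p 2 * μ := by rw [hdm, cm, hg4, hμ]
  -- `Q_a` is centralised by `U_a`; `U_a` centralises `μ`
  have hninv' : ∀ i, nn p * p i = p i * nn p := by
    intro i
    rw [nn, mul_assoc, h.comm 1 i, ← mul_assoc, h.comm 0 i, mul_assoc]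
  have hVQ : ∀ i, p i ∈ o2 (centralizer ({nn p} : Set G)) := by
    intro i
    refine le_o2_of_comm hG (by rw [sq]; exact hnn) hn1 (hninv' i).symm fun q hq => ?_
    rcases act_five hG S h T₀ hT₀ q hq (p i) (subset_closure ⟨i, rfl⟩) with h1 | h1
    · left
      rw [comm_iff] at h1
      calc p i * q * (p i)⁻¹ * q⁻¹ = (q * p i) * (p i)⁻¹ * q⁻¹ := by rw [h1]
        _ = 1 := by group
    · right
      have h2 : q * p i = nn p * p i * q := by rw [← h1]; group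
      calc p i * q * (p i)⁻¹ * q⁻¹ = nn p * (nn p * p i * q) * (p i)⁻¹ * q⁻¹ := by
            rw [← mul_assoc, ← mul_assoc, hnn, one_mul]
        _ = nn p * (q * p i) * (p i)⁻¹ * q⁻¹ := by rw [h2]
        _ = nn p := by group
  have hVQa : ∀ i, p i ∈ o2 (centralizer ({aa p} : Set G)) := by
    intro i
    have h1 := o2_cent_conj hτn (hVQ (σ⁻¹ i))
    rw [hσ] at h1
    rwa [show σ (σ⁻¹ i) = i from σ.apply_symm_apply i] at h1
  have haV : ∀ i, ∀ u ∈ zc (o2 (centralizer ({aa p} : Set G))), u * p i * u⁻¹ = p i := by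
    intro i u hu
    rw [comm_iff]
    exact ((mem_zc.1 hu).2.1 _ (hVQa i)).symm
  have hUD : ∀ u ∈ zc (o2 (centralizer ({aa p} : Set G))), u ∈ D := fun u hu =>
    (hDm u).2 ⟨Std.T_le (hQaT u (zc_le _ hu)), fun i => haV i u hu⟩
  -- `μ ∈ C(a)`
  have hμT : μ ∈ Std.T (S : Subgroup G) p := hQT (zc_le _ hμz)
  have hμa : μ * aa p * μ⁻¹ = aa p := h.T_a hμT
  have hUμ : ∀ u ∈ zc (o2 (centralizer ({aa p} : Set G))), u * μ * u⁻¹ = μ := by
    intro u hu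
    rcases hDμ u (hUD u hu) with h1 | h1
    · exact h1
    · exfalso
      have h2 : p 2 ∈ zc (o2 (centralizer ({aa p} : Set G))) := by
        have h3 := mul_mem hu (norm_zc_cent hμa (inv_mem hu))
        have e : u * (μ * u⁻¹ * μ⁻¹) = p 2 := by
          calc u * (μ * u⁻¹ * μ⁻¹) = u * μ * u⁻¹ * μ⁻¹ := by group
            _ = p 2 := by rw [h1]; group
        rwa [e] at h3
      have h3 := (mem_zc.1 h2).2.1 w hwQ
      rw [← comm_iff, hw23.1] at h3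
      exact absurd (h.inj h3) (by decide)
  -- `μ ∈ Q_a`
  have haz : aa p ∈ zc (o2 (centralizer ({nn p} : Set G))) := by
    refine mem_zc_of hG hnn hn1 h.asq ?_ fun q hq => (half_five hG S h q hq).1
    rw [comm_iff, h.an, h.na]
  have hnz : nn p ∈ zc (o2 (centralizer ({aa p} : Set G))) := by
    have h1 : τ * aa p * τ⁻¹ ∈ zc (o2 (centralizer ({aa p} : Set G))) := by
      obtain ⟨k1, k2, k3⟩ := mem_zc.1 haz
      refine mem_zc.2 ⟨o2_cent_conj hτn k1, fun b hb => ?_, by rw [conj_pow, k3, mul_one, mul_inv_cancel]⟩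
      have h2 := k2 _ (o2_cent_conj' hτn hb)
      calc b * (τ * aa p * τ⁻¹) = τ * (τ⁻¹ * b * τ * aa p) * τ⁻¹ := by group
        _ = τ * (aa p * (τ⁻¹ * b * τ)) * τ⁻¹ := by rw [h2]
        _ = τ * aa p * τ⁻¹ * b := by group
    rwa [hτa] at h1
  have hμQ : μ ∈ o2 (centralizer ({aa p} : Set G)) := by
    obtain ⟨K, hK⟩ : ∃ K, K = centralizer ({aa p} : Set G) ⊓
        centralizer (zc (o2 (centralizer ({aa p} : Set G))) : Set G) := ⟨_, rfl⟩
    have hKa : K ≤ centralizer ({aa p} : Set G) := hK ▸ inf_le_left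
    have hKn : K ≤ centralizer ({nn p} : Set G) := by
      intro k hk
      rw [hK, mem_inf, mem_centralizer_iff] at hk
      rw [mem_cent, comm_iff]
      exact (hk.2 _ hnz).symm
    have hN1 : zc (o2 (centralizer ({nn p} : Set G))) ⊓ K ≤ o2 K := by
      refine le_o2 inf_le_right ((o2_isPGroup _).to_le (inf_le_left.trans (zc_le _))) ?_
      refine le_trans (le_inf (hKn.trans ?_) le_normalizer) inf_normalizer_le_normalizer_inf
      exact (le_normalizer_o2 _).trans (normalizer_le_normalizer_zc _)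
    have hK1 : centralizer ({aa p} : Set G) ≤ normalizer (K : Set G) := by
      rw [hK]
      refine le_trans (le_inf le_normalizer ?_) inf_normalizer_le_normalizer_inf
      exact ((le_normalizer_o2 _).trans (normalizer_le_normalizer_zc _)).trans (norm_cent _)
    have hK2 : o2 K ≤ o2 (centralizer ({aa p} : Set G)) :=
      le_o2 ((o2_le K).trans hKa) (o2_isPGroup K) (hK1.trans (normalizer_le_normalizer_o2' K))
    refine hK2 (hN1 (mem_inf.2 ⟨hμz, ?_⟩))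
    rw [hK, mem_inf]
    refine ⟨mem_cent.2 hμa, mem_centralizer_iff.2 fun u hu => ?_⟩
    exact comm_iff.1 (hUμ u hu)
  -- the end
  have hwn : ∀ x ∈ D, w * x * w⁻¹ ∈ D := by
    intro x hx
    obtain ⟨h1, h2⟩ := (hDm x).1 hx
    refine (hDm _).2 ⟨mul_mem (mul_mem hwS h1) (inv_mem hwS), fun i => ?_⟩
    obtain ⟨ρ, hρ⟩ := h.perm w⁻¹ (inv_mem (h.le hwS))
    calc w * x * w⁻¹ * p i * (w * x * w⁻¹)⁻¹ = w * (x * (w⁻¹ * p i * w⁻¹⁻¹) * x⁻¹) * w⁻¹ := by group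
      _ = w * (w⁻¹ * p i * w⁻¹⁻¹) * w⁻¹ := by rw [hρ, h2]
      _ = p i := by group
  obtain ⟨b, hb⟩ : ∃ b, b = w * (g * d * g⁻¹) * w⁻¹ := ⟨_, rfl⟩
  have hbD : b ∈ D := hb ▸ hwn _ hd'D
  have hb1 : b * (w * μ * w⁻¹) * b⁻¹ = p 3 * (w * μ * w⁻¹) := by
    calc b * (w * μ * w⁻¹) * b⁻¹ = w * (g * d * g⁻¹ * μ * (g * d * g⁻¹)⁻¹) * w⁻¹ := by rw [hb]; group
      _ = p 3 * (w * μ * w⁻¹) := by rw [hd'μ, cm, hw23.1]
  have hba : b * aa p * b⁻¹ = aa p := by rw [aa, cm, ((hDm b).1 hbD).2, ((hDm b).1 hbD).2]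
  have hb2 : b * μ * b⁻¹ = p 3 * μ := by
    rcases hwc μ hμQ with h1 | h1
    · rwa [h1] at hb1
    · rw [h1, cm, hba] at hb1
      have h3 : p 3 * aa p = aa p * p 3 := by rw [aa, ← mul_assoc, h.comm 3 2]
      have h2 : aa p * (b * μ * b⁻¹) = aa p * (p 3 * μ) := by rw [hb1, ← mul_assoc, h3, mul_assoc]
      exact mul_left_cancel h2
  rcases hDμ b hbD with h1 | h1
  · rw [h1] at hb2
    exact h.ne 3 (mul_right_cancel (hb2.symm.trans (one_mul μ).symm))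
  · rw [h1] at hb2
    exact absurd (h.inj (mul_right_cancel hb2)) (by decide)

end

/-- **The hypotheses of `exit` are contradictory.** -/
theorem false_of [Finite G] (hG : IsCharacteristicTwoType G) (S : Sylow 2 G) {P : Subgroup G}
    (hP : IsParS (S : Subgroup G) P) (hF : TypeFive (S : Subgroup G) P) {t n : G}
    (htV : t ∈ normalizer (zl (S : Subgroup G) P : Set G)) (ht2 : IsPGroup 2 (zpowers t))
    (ht : ∀ v ∈ zl (S : Subgroup G) P, t * v * t⁻¹ = v ∨ t * v * t⁻¹ = n * v)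
    (hne : ∃ v ∈ zl (S : Subgroup G) P, t * v * t⁻¹ ≠ v) (htn : t * n * t⁻¹ = n)
    (T₀ : Sylow 2 G) (hT₀ : ∀ x ∈ (T₀ : Subgroup G), x * n * x⁻¹ = n)
    (htQ : ∀ q ∈ o2 (centralizer ({n} : Set G)), t * q * t⁻¹ = q ∨ t * q * t⁻¹ = n * q) : False := by
  obtain ⟨c, hc, p, hstd, hV, hct, hcn, hct0⟩ := reduce hG S hP hF htV ht2 ht hne
  have hT₁ : ∀ x ∈ ((c • T₀ : Sylow 2 G) : Subgroup G), x * nn p * x⁻¹ = nn p := by
    intro x hx
    have h1 := hT₀ _ (mem_smul.1 hx)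
    calc x * nn p * x⁻¹ = c * ((c⁻¹ * x * c) * n * (c⁻¹ * x * c)⁻¹) * c⁻¹ := by rw [← hcn]; group
      _ = nn p := by rw [h1, hcn]
  refine kill hG S hstd (c • T₀) hT₁ (t := c * t * c⁻¹) hct0 ?_ ?_
  · calc c * t * c⁻¹ * nn p * (c * t * c⁻¹)⁻¹ = c * (t * n * t⁻¹) * c⁻¹ := by rw [← hcn]; group
      _ = nn p := by rw [htn, hcn]
  · intro q hq
    rcases htQ _ (o2_cent_conj' hcn hq) with h2 | h2
    · left
      calc c * t * c⁻¹ * q * (c * t * c⁻¹)⁻¹ = c * (t * (c⁻¹ * q * c) * t⁻¹) * c⁻¹ := by group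
        _ = q := by rw [h2]; group
    · right
      calc c * t * c⁻¹ * q * (c * t * c⁻¹)⁻¹ = c * (t * (c⁻¹ * q * c) * t⁻¹) * c⁻¹ := by group
        _ = c * n * c⁻¹ * q := by rw [h2]; group
        _ = nn p * q := by rw [hcn]

/-- **There is no mutual pair: natural `SL₂(2)` against a transposition of `S₅`.** (proof: helper501) -/
theorem false_nat [Finite G] (hG : IsCharacteristicTwoType G) (S : Sylow 2 G) {P P₂ : Subgroup G} {x : G}
    (h : Mutual (S : Subgroup G) P P₂ x) (hF : TypeFive (S : Subgroup G) P)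
    (h4 : Nat.card (zl (S : Subgroup G) P₂) = 4) : False := by
  have hle : zl (S : Subgroup G) P ≤ zc (o2 P) := h.star₁.isLoc.zl_le S hG
  have hle₂ : zl (S : Subgroup G) P₂ ≤ zc (o2 P₂) := h.star₂.isLoc.zl_le S hG
  -- `E`
  obtain ⟨E, hE⟩ : ∃ E, E = MulAut.conj x • zl (S : Subgroup G) P₂ := ⟨_, rfl⟩
  have hEc : ∀ a ∈ E, ∀ b ∈ E, a * b = b * a := by
    intro a ha b hb
    rw [hE, mem_csmul] at ha hb
    have h1 := zc_comm _ _ (hle₂ ha) _ (hle₂ hb)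
    calc a * b = x * ((x⁻¹ * a * x) * (x⁻¹ * b * x)) * x⁻¹ := by group
      _ = x * ((x⁻¹ * b * x) * (x⁻¹ * a * x)) * x⁻¹ := by rw [h1]
      _ = b * a := by group
  have hEs : ∀ a ∈ E, a * a = 1 := by
    intro a ha
    rw [hE, mem_csmul] at ha
    have h1 := zc_sq _ _ (hle₂ ha)
    rw [sq] at h1
    calc a * a = x * ((x⁻¹ * a * x) * (x⁻¹ * a * x)) * x⁻¹ := by group
      _ = 1 := by rw [h1]; group
  have hE4 : Nat.card E = 4 := by
    rw [hE, ← h4]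
    exact (Nat.card_congr (equivSMul (MulAut.conj x) _).toEquiv).symm
  have hEinv : ∀ a ∈ E, a⁻¹ = a := fun a ha => inv_eq_of_mul_eq_one_left (hEs a ha)
  have hVc : ∀ a ∈ zl (S : Subgroup G) P, ∀ b ∈ zl (S : Subgroup G) P, a * b = b * a := fun a ha b hb =>
    zc_comm _ _ (hle ha) _ (hle hb)
  have hVs : ∀ a ∈ zl (S : Subgroup G) P, a * a = 1 := fun a ha => by
    rw [← sq]; exact zc_sq _ _ (hle ha)
  have h1 : zl (S : Subgroup G) P ≤ normalizer (E : Set G) := hE ▸ h.le₁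
  have h2 : E ≤ normalizer (zl (S : Subgroup G) P : Set G) := hE ▸ h.le₂
  -- `v0`, `t`
  obtain ⟨v0, hv0, t, ht, hvt⟩ : ∃ v ∈ zl (S : Subgroup G) P, ∃ t ∈ E, v * t * v⁻¹ ≠ t := by
    by_contra hcon
    push Not at hcon
    apply h.ne
    rw [← hE, commutator_eq_bot_iff_le_centralizer]
    intro v hv
    rw [mem_centralizer_iff]
    intro t ht
    exact (comm_iff.1 (hcon v hv t ht)).symm
  have hVE : ∀ v ∈ zl (S : Subgroup G) P, ∀ a ∈ E, v * a * v⁻¹ ∈ E := fun v hv a ha =>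
    (mem_normalizer_iff.1 (h1 hv) a).1 ha
  obtain ⟨n, hn⟩ : ∃ n, n = t * (v0 * t * v0⁻¹) := ⟨_, rfl⟩
  have hnE : n ∈ E := hn ▸ mul_mem ht (hVE v0 hv0 t ht)
  have hn1 : n ≠ 1 := by
    intro e
    apply hvt
    calc v0 * t * v0⁻¹ = t * (t * (v0 * t * v0⁻¹)) := by rw [← mul_assoc, hEs t ht, one_mul]
      _ = t := by rw [← hn, e, mul_one]
  have hv0t : v0 * t * v0⁻¹ = t * n := by
    rw [hn, ← mul_assoc, hEs t ht, one_mul]
  have hnc0 : v0 * n * v0⁻¹ = n := by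
    have e : v0 * (v0 * t * v0⁻¹) * v0⁻¹ = t := by
      rw [cc, hVs v0 hv0]; group
    rw [hn, cm, e, hEc _ (hVE v0 hv0 t ht) _ ht]
  have htn : t ≠ n := fun e => hvt (by rw [e]; exact hnc0)
  have ht1 : t ≠ 1 := fun e => hvt (by rw [e]; group)
  have htnE : t * n ∈ E := mul_mem ht hnE
  have htn1 : t * n ≠ 1 := fun e => htn (by
    calc t = t * (n * n) := by rw [hEs n hnE, mul_one]
      _ = n := by rw [← mul_assoc, e, one_mul])
  have ht_tn : t ≠ t * n := fun e => hn1 (mul_eq_left.1 e.symm)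
  have hn_tn : n ≠ t * n := fun e => ht1 (mul_eq_right.1 e.symm)
  have hmem : ∀ a ∈ E, a = 1 ∨ a = t ∨ a = n ∨ a = t * n := fun a ha =>
    mem_four hE4 ht hnE htnE ht1 hn1 htn1 htn ht_tn hn_tn ha
  -- `V` centralises `n`
  have hVn : ∀ v ∈ zl (S : Subgroup G) P, v * n * v⁻¹ = n := by
    intro v hv
    have h3 : v0 * (v * n * v⁻¹) * v0⁻¹ = v * n * v⁻¹ := by
      rw [cc, hVc v0 hv0 v hv, ← cc, hnc0]
    rcases hmem _ (hVE v hv n hnE) with h5 | h5 | h5 | h5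
    · exfalso; apply hn1
      calc n = v⁻¹ * (v * n * v⁻¹) * v := by group
        _ = 1 := by rw [h5]; group
    · rw [h5] at h3; exact absurd h3 hvt
    · exact h5
    · rw [h5, cm, hnc0, hv0t, mul_assoc, hEs n hnE, mul_one] at h3
      exact absurd h3 ht_tn
  have hact : ∀ y : G, y * n * y⁻¹ = n → (∀ a ∈ E, y * a * y⁻¹ ∈ E) → y * t * y⁻¹ = t ∨ y * t * y⁻¹ = t * n := by
    intro y hyn hyE
    rcases hmem _ (hyE t ht) with h5 | h5 | h5 | h5
    · exfalso; apply ht1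
      calc t = y⁻¹ * (y * t * y⁻¹) * y := by group
        _ = 1 := by rw [h5]; group
    · exact Or.inl h5
    · exact absurd (conj_inj (h5.trans hyn.symm)) htn
    · exact Or.inr h5
  have hswap : ∀ y : G, (y * t * y⁻¹ = t ∨ y * t * y⁻¹ = t * n) → (t * y * t⁻¹ = y ∨ t * y * t⁻¹ = n * y) := by
    rintro y (h5 | h5)
    · left
      rw [comm_iff] at h5 ⊢
      exact h5.symm
    · right
      have h6 : y * t = t * n * y := by rw [← h5]; group
      calc t * y * t⁻¹ = t * (y * t) := by rw [hEinv t ht, mul_assoc]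
        _ = (t * t) * n * y := by rw [h6]; group
        _ = n * y := by rw [hEs t ht, one_mul]
  -- `n` is 2-central, with a Sylow subgroup normalising `E`
  obtain ⟨p, hp, hpV⟩ := hF
  obtain ⟨ρ, hstd⟩ := hp.exists_std S h.star₁.le
    (fun i => ((hle.trans (zc_le _)).trans (h.star₁.isLoc.o2_le S)) (hpV ▸ subset_closure (Set.mem_range_self i)))
    (fun y hy => hpV ▸ zc_le_zl _ _ hy)
  have hs : (p ∘ ρ) 4 ∈ zc (S : Subgroup G) :=
    mem_zc.2 ⟨hstd.mem 4, fun b hb => comm_iff.1 (hstd.fix b hb), by rw [sq]; exact hstd.sq 4⟩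
  obtain ⟨g, hg, hgn⟩ := exists_conj_eq hG S h.star₂ h4 hstd.zc4 (hstd.ne 4) hs
    (w := x⁻¹ * n * x) (mem_csmul.1 (hE ▸ hnE)) (fun e => hn1 (by
      calc n = x * (x⁻¹ * n * x) * x⁻¹ := by group
        _ = 1 := by rw [e]; group))
  have hn' : (x * g) * (p ∘ ρ) 4 * (x * g)⁻¹ = n := by
    rw [← cc, hgn]; group
  obtain ⟨T₀, hT₀⟩ : ∃ T₀ : Sylow 2 G, T₀ = (x * g) • S := ⟨_, rfl⟩
  have hT₀n : ∀ y ∈ (T₀ : Subgroup G), y * n * y⁻¹ = n := by
    intro y hy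
    rw [hT₀, mem_smul] at hy
    have h5 := hstd.fix _ hy
    calc y * n * y⁻¹ = (x * g) * (((x * g)⁻¹ * y * (x * g)) * (p ∘ ρ) 4 * ((x * g)⁻¹ * y * (x * g))⁻¹) * (x * g)⁻¹ := by
            rw [← hn']; group
      _ = n := by rw [h5, hn']
  have hT₀E : ∀ y ∈ (T₀ : Subgroup G), ∀ a ∈ E, y * a * y⁻¹ ∈ E := by
    intro y hy a ha
    rw [hT₀, mem_smul] at hy
    rw [hE, mem_csmul] at ha ⊢
    have h5 : g * ((x * g)⁻¹ * y * (x * g)) * g⁻¹ ∈ P₂ :=
      mul_mem (mul_mem hg (h.star₂.le hy)) (inv_mem hg)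
    have h6 := (mem_normalizer_iff.1 (le_normalizer_zl _ _ h5) _).1 ha
    have e : g * ((x * g)⁻¹ * y * (x * g)) * g⁻¹ * (x⁻¹ * a * x) * (g * ((x * g)⁻¹ * y * (x * g)) * g⁻¹)⁻¹ =
        x⁻¹ * (y * a * y⁻¹) * x := by group
    rwa [e] at h6
  refine false_of hG S h.star₁ ⟨p, hp, hpV⟩ (t := t) (n := n) (h2 ht)
    (MinSimple.Basic.isPGroup_zpowers (by rw [sq]; exact hEs t ht)) ?_ ⟨v0, hv0, ?_⟩ ?_ T₀ hT₀n ?_
  · intro v hv
    exact hswap v (hact v (hVn v hv) (hVE v hv))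
  · intro e
    rw [comm_iff] at e
    exact hvt (comm_iff.2 e.symm)
  · rw [comm_iff]; exact hEc t ht n hnE
  · intro q hq
    have hqT : q ∈ (T₀ : Subgroup G) := by
      refine o2_le_of_sylow T₀.isPGroup' (MinSimple.Basic.not_dvd_relIndex T₀ (X := centralizer ({n} : Set G)) ?_) hq
      exact fun y hy => mem_cent.2 (hT₀n y hy)
    exact hswap q (hact q (hT₀n q hqT) (hT₀E q hqT))

/-- **There is no mutual pair of type T-T with 2-central `n`**: `V = V_P`, `V' = (V_{P₂})^x` both of type `S₅`,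
`[V, V'] = ⟨n⟩`. (proof: helper501) -/
theorem false_tt [Finite G] (hG : IsCharacteristicTwoType G) (S : Sylow 2 G) {P P₂ : Subgroup G} {x : G}
    (h : Mutual (S : Subgroup G) P P₂ x) (hF : TypeFive (S : Subgroup G) P) (hF₂ : TypeFive (S : Subgroup G) P₂)
    {n : G} (hT : ∀ v ∈ zl (S : Subgroup G) P, ∀ w ∈ MulAut.conj x • zl (S : Subgroup G) P₂,
      v * w * v⁻¹ = w ∨ v * w * v⁻¹ = n * w)
    (T₀ : Sylow 2 G) (hT₀ : ∀ y ∈ (T₀ : Subgroup G), y * n * y⁻¹ = n) : False := by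
  have hle : zl (S : Subgroup G) P ≤ zc (o2 P) := h.star₁.isLoc.zl_le S hG
  have hle₂ : zl (S : Subgroup G) P₂ ≤ zc (o2 P₂) := h.star₂.isLoc.zl_le S hG
  obtain ⟨E, hE⟩ : ∃ E, E = MulAut.conj x • zl (S : Subgroup G) P₂ := ⟨_, rfl⟩
  rw [← hE] at hT
  have hEc : ∀ a ∈ E, ∀ b ∈ E, a * b = b * a := by
    intro a ha b hb
    rw [hE, mem_csmul] at ha hb
    have h1 := zc_comm _ _ (hle₂ ha) _ (hle₂ hb)
    calc a * b = x * ((x⁻¹ * a * x) * (x⁻¹ * b * x)) * x⁻¹ := by group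
      _ = x * ((x⁻¹ * b * x) * (x⁻¹ * a * x)) * x⁻¹ := by rw [h1]
      _ = b * a := by group
  have hEs : ∀ a ∈ E, a * a = 1 := by
    intro a ha
    rw [hE, mem_csmul] at ha
    have h1 := zc_sq _ _ (hle₂ ha)
    rw [sq] at h1
    calc a * a = x * ((x⁻¹ * a * x) * (x⁻¹ * a * x)) * x⁻¹ := by group
      _ = 1 := by rw [h1]; group
  have hVc : ∀ a ∈ zl (S : Subgroup G) P, ∀ b ∈ zl (S : Subgroup G) P, a * b = b * a := fun a ha b hb =>
    zc_comm _ _ (hle ha) _ (hle hb)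
  have hVs : ∀ a ∈ zl (S : Subgroup G) P, a * a = 1 := fun a ha => by
    rw [← sq]; exact zc_sq _ _ (hle ha)
  have h1 : zl (S : Subgroup G) P ≤ normalizer (E : Set G) := hE ▸ h.le₁
  have h2 : E ≤ normalizer (zl (S : Subgroup G) P : Set G) := hE ▸ h.le₂
  obtain ⟨v0, hv0, w0, hw0, hvw⟩ : ∃ v ∈ zl (S : Subgroup G) P, ∃ w ∈ E, v * w * v⁻¹ ≠ w := by
    by_contra hcon
    push Not at hcon
    apply h.ne
    rw [← hE, commutator_eq_bot_iff_le_centralizer]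
    intro v hv
    rw [mem_centralizer_iff]
    intro t ht
    exact (comm_iff.1 (hcon v hv t ht)).symm
  have hn0 : v0 * w0 * v0⁻¹ = n * w0 := (hT v0 hv0 w0 hw0).resolve_left hvw
  have hn_eq : n = (v0 * w0 * v0⁻¹) * w0⁻¹ := by rw [hn0]; group
  have hnE : n ∈ E := hn_eq ▸ mul_mem ((mem_normalizer_iff.1 (h1 hv0) w0).1 hw0) (inv_mem hw0)
  have hnV : n ∈ zl (S : Subgroup G) P := by
    have e : n = v0 * (w0 * v0⁻¹ * w0⁻¹) := by rw [hn_eq]; group
    rw [e]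
    exact mul_mem hv0 ((mem_normalizer_iff.1 (h2 hw0) _).1 (inv_mem hv0))
  have hn1 : n ≠ 1 := fun e => hvw (by rw [hn0, e, one_mul])
  have hnn : n * n = 1 := hEs n hnE
  have hninv : n⁻¹ = n := inv_eq_of_mul_eq_one_left hnn
  -- a general commutator flip
  have flip : ∀ y w : G, y * w * y⁻¹ = w ∨ y * w * y⁻¹ = n * w → w * y * w⁻¹ = y ∨ w * y * w⁻¹ = n * y := by
    rintro y w (h5 | h5)
    · left
      rw [comm_iff] at h5 ⊢
      exact h5.symm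
    · right
      have h6 : y * w = n * w * y := by rw [← h5]; group
      have h7 : w * y = n * (y * w) := by rw [h6, ← mul_assoc, ← mul_assoc, hnn, one_mul]
      calc w * y * w⁻¹ = n * (y * w) * w⁻¹ := by rw [h7]
        _ = n * y := by group
  -- normal form on the side of `P₂`
  have hv2 : x⁻¹ * v0 * x ∈ normalizer (zl (S : Subgroup G) P₂ : Set G) := by
    have h3 := h1 hv0
    rw [mem_normalizer_iff] at h3 ⊢
    intro y
    have h4 := h3 (x * y * x⁻¹)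
    rw [hE, mem_csmul, mem_csmul] at h4
    have e1 : x⁻¹ * (x * y * x⁻¹) * x = y := by group
    have e2 : x⁻¹ * (v0 * (x * y * x⁻¹) * v0⁻¹) * x = x⁻¹ * v0 * x * y * (x⁻¹ * v0 * x)⁻¹ := by group
    rwa [e1, e2] at h4
  have hEx : ∀ w ∈ zl (S : Subgroup G) P₂, x * w * x⁻¹ ∈ E := fun w hw => hE ▸ csmul_mem hw
  obtain ⟨c, hc, p, hstd, hpV, -, hcn, -⟩ := reduce hG S h.star₂ hF₂ (t := x⁻¹ * v0 * x) (n := x⁻¹ * n * x) hv2
    (isPGroup_zpowers (by
      rw [sq]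
      calc x⁻¹ * v0 * x * (x⁻¹ * v0 * x) = x⁻¹ * (v0 * v0) * x := by group
        _ = 1 := by rw [hVs v0 hv0]; group)) (by
      intro w hw
      rcases hT v0 hv0 _ (hEx w hw) with h3 | h3
      · left
        calc x⁻¹ * v0 * x * w * (x⁻¹ * v0 * x)⁻¹ = x⁻¹ * (v0 * (x * w * x⁻¹) * v0⁻¹) * x := by group
          _ = w := by rw [h3]; group
      · right
        calc x⁻¹ * v0 * x * w * (x⁻¹ * v0 * x)⁻¹ = x⁻¹ * (v0 * (x * w * x⁻¹) * v0⁻¹) * x := by group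
          _ = x⁻¹ * n * x * w := by rw [h3]; group) ⟨x⁻¹ * w0 * x, by
            rw [hE, mem_csmul] at hw0; exact hw0, fun e => hvw (by
              calc v0 * w0 * v0⁻¹ = x * (x⁻¹ * v0 * x * (x⁻¹ * w0 * x) * (x⁻¹ * v0 * x)⁻¹) * x⁻¹ := by group
                _ = w0 := by rw [e]; group)⟩
  -- `k = c x⁻¹` maps `n` to `nn p`
  obtain ⟨k, hk⟩ : ∃ k, k = c * x⁻¹ := ⟨_, rfl⟩
  have hkn : k * n * k⁻¹ = nn p := by rw [← hcn, hk]; group
  have hkE : ∀ w ∈ E, k * w * k⁻¹ ∈ closure (Set.range p) := by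
    intro w hw
    rw [← hpV, hk]
    rw [hE, mem_csmul] at hw
    have h3 := (mem_normalizer_iff.1 hc _).1 hw
    have e : c * (x⁻¹ * w * x) * c⁻¹ = c * x⁻¹ * w * (c * x⁻¹)⁻¹ := by group
    rwa [e] at h3
  have hkT : ∀ y ∈ ((k • T₀ : Sylow 2 G) : Subgroup G), y * nn p * y⁻¹ = nn p := by
    intro y hy
    have h3 := hT₀ _ (mem_smul.1 hy)
    calc y * nn p * y⁻¹ = k * ((k⁻¹ * y * k) * n * (k⁻¹ * y * k)⁻¹) * k⁻¹ := by rw [← hkn]; group
      _ = nn p := by rw [h3, hkn]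
  have hact := act_five hG S hstd (k • T₀) hkT
  have hQ : ∀ q ∈ o2 (centralizer ({n} : Set G)), ∀ w ∈ E, q * w * q⁻¹ = w ∨ q * w * q⁻¹ = n * w := by
    intro q hq w hw
    have h3 : k * q * k⁻¹ ∈ o2 (centralizer ({nn p} : Set G)) := by
      have e1 : (o2 (centralizer ({n} : Set G))).map (MulAut.conj k).toMonoidHom =
          o2 ((centralizer ({n} : Set G)).map (MulAut.conj k).toMonoidHom) :=
        (MinPar.o2_map_equiv (MulAut.conj k) _).symm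
      have e2 : (centralizer ({n} : Set G)).map (MulAut.conj k).toMonoidHom = centralizer ({nn p} : Set G) := by
        ext y
        rw [mem_map_equiv, mem_cent, mem_cent]
        have : (MulAut.conj k).symm y = k⁻¹ * y * k := by
          rw [MulAut.conj_symm_apply]
        rw [this, ← hkn]
        constructor
        · intro h1
          calc y * (k * n * k⁻¹) * y⁻¹ = k * ((k⁻¹ * y * k) * n * (k⁻¹ * y * k)⁻¹) * k⁻¹ := by group
            _ = k * n * k⁻¹ := by rw [h1]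
        · intro h1
          calc (k⁻¹ * y * k) * n * (k⁻¹ * y * k)⁻¹ = k⁻¹ * (y * (k * n * k⁻¹) * y⁻¹) * k := by group
            _ = n := by rw [h1]; group
      rw [← e2, ← e1]
      exact ⟨q, hq, rfl⟩
    rcases hact _ h3 _ (hkE w hw) with h4 | h4
    · left
      calc q * w * q⁻¹ = k⁻¹ * (k * q * k⁻¹ * (k * w * k⁻¹) * (k * q * k⁻¹)⁻¹) * k := by group
        _ = w := by rw [h4]; group
    · right
      calc q * w * q⁻¹ = k⁻¹ * (k * q * k⁻¹ * (k * w * k⁻¹) * (k * q * k⁻¹)⁻¹) * k := by group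
        _ = k⁻¹ * (k * n * k⁻¹ * (k * w * k⁻¹)) * k := by rw [h4, hkn]
        _ = n * w := by group
  refine false_of hG S h.star₁ hF (t := w0) (n := n) (h2 hw0) (isPGroup_zpowers (by rw [sq]; exact hEs w0 hw0)) ?_
    ⟨v0, hv0, ?_⟩ ?_ T₀ hT₀ ?_
  · intro v hv
    exact flip v w0 (hT v hv w0 hw0)
  · intro e
    rw [comm_iff] at e
    exact hvw (comm_iff.2 e.symm)
  · rw [comm_iff]; exact hEc w0 hw0 n hnE
  · intro q hq
    exact flip q w0 (hQ q hq w0 hw0)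

end Cfsg.Agent.Omega.NTwo

end

-- merged: Cfsg.Agent.Mrg.Omega.NTwo.Zero
section

/-!
# OMEGA II.c, `m = 2`: the leaves `NatFive` and `TTCen` without the exit N2 (helper556)

The configurations of `S5.Main.NatFive` and `S5.Main.TTCen` do not occur (`false_nat`, `false_tt`).
-/

set_option autoImplicit false

namespace Cfsg.Agent.Omega.NTwo.Zero

open Subgroup Cfsg Cfsg.Agent.ZN Cfsg.Agent.ZN.ChoiceBase Cfsg.Agent.MinSimple.VModule Pointwise
open Cfsg.Agent.Omega.S5.Def Cfsg.Agent.Omega.S5.Main Cfsg.Agent.Omega.Frame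
open Cfsg.Agent.Omega.FrameLE (AllIn)
open Cfsg.Agent.Omega.S5.Types (TwoAct)
open Cfsg.Agent.Omega.S5
open Cfsg.Agent.Omega.S5.Syl
open scoped commutatorElement

universe u

section

variable {G : Type u} [Group G]

theorem single_sum_dec : (Pi.single 0 1 + Pi.single 1 1 + (Pi.single 2 1 + Pi.single 3 1) : Fin 5 → ZMod 2) =
    Pi.single 4 1 + 1 := by decide

/-- The five points of a labelled even-subset module. -/
theorem fv_of_even {V P : Subgroup G} {ε : (Fin 5 → ZMod 2) → G} (h : EvenSet 5 V P ε) :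
    Fv P (fun i => ε (Pi.single i 1)) ∧ V = closure (Set.range fun i => ε (Pi.single i 1)) := by
  refine ⟨⟨fun i => h.single_ne_one (by norm_num) i, fun i => h.sq _, fun i j => h.comm _ _,
    fun i j hij => h.single_inj (by norm_num) hij, ?_, ?_, ?_⟩, le_antisymm ?_ ?_⟩
  · rw [← h.add, ← h.add, ← h.add, h.eq_iff]
    exact Or.inr single_sum_dec
  · intro g hg
    obtain ⟨σ, hσ⟩ := h.perm g hg
    exact ⟨σ, fun i => hσ.single i⟩
  · intro σ
    obtain ⟨g, hg, hσ⟩ := h.full σ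
    exact ⟨g, hg, fun i => hσ.single i⟩
  · intro v hv
    obtain ⟨x, rfl⟩ := h.surj v hv
    have key : ∀ s : Finset (Fin 5), ε (∑ i ∈ s, Pi.single i (x i)) ∈
        closure (Set.range fun i => ε (Pi.single i 1)) := by
      intro s
      induction s using Finset.induction_on with
      | empty => rw [Finset.sum_empty, h.zero]; exact one_mem _
      | insert a s ha ih =>
        rw [Finset.sum_insert ha, h.add]
        refine mul_mem ?_ ih
        have h2 : ∀ z : ZMod 2, z = 0 ∨ z = 1 := by decide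
        rcases h2 (x a) with h3 | h3
        · rw [h3, Pi.single_zero, h.zero]; exact one_mem _
        · rw [h3]; exact subset_closure ⟨a, rfl⟩
    have h1 := key Finset.univ
    rwa [Finset.univ_sum_single] at h1
  · rw [closure_le]
    rintro _ ⟨i, rfl⟩
    exact h.mem _

theorem typeFive_of_even {S P : Subgroup G} {ε : (Fin 5 → ZMod 2) → G} (h : EvenSet 5 (zl S P) P ε) :
    TypeFive S P := ⟨_, fv_of_even h⟩

/-- `|V / C_V(V')| ≤ 2`, `|V' / C_{V'}(V)| ≤ 2` : `[V, V']` has at most one nontrivial element. -/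
theorem exists_center {V V' : Subgroup G} (t1 : TwoAct V' V) (t2 : TwoAct V V') (hne : ⁅V, V'⁆ ≠ ⊥) :
    ∃ n ∈ (⁅V, V'⁆ : Subgroup G), ∀ v ∈ V, ∀ w ∈ V', v * w * v⁻¹ = w ∨ v * w * v⁻¹ = n * w := by
  obtain ⟨v0, hv0, w0, hw0, h0⟩ : ∃ v ∈ V, ∃ w ∈ V', v * w * v⁻¹ ≠ w := by
    by_contra hcon
    push Not at hcon
    apply hne
    rw [commutator_eq_bot_iff_le_centralizer]
    intro v hv
    rw [mem_centralizer_iff]
    intro w hw
    exact (comm_iff.1 (hcon v hv w hw)).symm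
  have hv0' : v0 ∉ centralizer (V' : Set G) := fun h1 =>
    h0 (comm_iff.2 (mem_centralizer_iff.1 h1 w0 hw0).symm)
  have hw0' : w0 ∉ centralizer (V : Set G) := fun h1 =>
    h0 (comm_iff.2 (mem_centralizer_iff.1 h1 v0 hv0))
  refine ⟨⁅v0, w0⁆, commutator_mem_commutator hv0 hw0, fun v hv w hw => ?_⟩
  by_cases h1 : v ∈ centralizer (V' : Set G)
  · left; exact comm_iff.2 (mem_centralizer_iff.1 h1 w hw).symm
  by_cases h2 : w ∈ centralizer (V : Set G)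
  · left; exact comm_iff.2 (mem_centralizer_iff.1 h2 v hv)
  right
  have h3 := t2 v0 hv0 v hv hv0' h1
  have h4 := t1 w0 hw0 w hw hw0' h2
  obtain ⟨c, hc⟩ : ∃ c, c = v0⁻¹ * v := ⟨_, rfl⟩
  obtain ⟨e, he⟩ : ∃ e, e = w0⁻¹ * w := ⟨_, rfl⟩
  rw [← hc] at h3
  rw [← he] at h4
  have hcV : c ∈ V := hc ▸ mul_mem (inv_mem hv0) hv
  have heV' : e ∈ V' := he ▸ mul_mem (inv_mem hw0) hw
  have hv : v = v0 * c := by rw [hc]; group
  have hw' : w = w0 * e := by rw [he]; group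
  have k1 : w0 * c = c * w0 := mem_centralizer_iff.1 h3 w0 hw0
  have k2 : e * c = c * e := mem_centralizer_iff.1 h3 e heV'
  have k3 : v0 * e = e * v0 := mem_centralizer_iff.1 h4 v0 hv0
  rw [commutatorElement_def, hv, hw']
  calc v0 * c * (w0 * e) * (v0 * c)⁻¹ = v0 * ((c * w0) * e) * c⁻¹ * v0⁻¹ := by group
    _ = v0 * (w0 * (c * e)) * c⁻¹ * v0⁻¹ := by rw [← k1, mul_assoc w0]
    _ = v0 * w0 * (e * c) * c⁻¹ * v0⁻¹ := by rw [← k2]; group
    _ = v0 * w0 * (e * v0⁻¹) := by group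
    _ = v0 * w0 * (v0⁻¹ * (v0 * e) * v0⁻¹) := by group
    _ = v0 * w0 * (v0⁻¹ * (e * v0) * v0⁻¹) := by rw [k3]
    _ = v0 * w0 * v0⁻¹ * w0⁻¹ * (w0 * e) := by group

end

/-- **`NatFive` does not occur.** -/
theorem natFive_false {G : Type u} [Group G] [Finite G] (hG : IsCharacteristicTwoType G) (S : Sylow 2 G)
    {P₁ P₂ : Subgroup G} {y : G} {ε : (Fin (2 ^ 2 + 1) → ZMod 2) → G} (hl : Lab S P₁ P₂ y 2 ε)
    (h4 : Nat.card (zl (S : Subgroup G) P₂) = 4) : False :=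
  false_nat hG S hl.pair (typeFive_of_even hl.even) h4

/-- **`TTCen` does not occur.** -/
theorem ttCen_false {G : Type u} [Group G] [Finite G] (hG : IsCharacteristicTwoType G) (S : Sylow 2 G)
    {P₁ P₂ : Subgroup G} {y : G} {ε ε₂ : (Fin (2 ^ 2 + 1) → ZMod 2) → G} (hl : LabTwo S P₁ P₂ y 2 2 ε ε₂)
    (t1 : TwoAct (cj y (zl (S : Subgroup G) P₂)) (zl (S : Subgroup G) P₁))
    (t2 : TwoAct (zl (S : Subgroup G) P₁) (cj y (zl (S : Subgroup G) P₂)))
    (hC : Cen (zl (S : Subgroup G) P₁) (cj y (zl (S : Subgroup G) P₂))) : False := by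
  obtain ⟨T, hT⟩ := hC
  obtain ⟨n, hn, hact⟩ := exists_center t1 t2 hl.pair.ne
  refine false_tt hG S hl.pair (typeFive_of_even hl.even) (typeFive_of_even hl.even₂) (n := n) hact T fun x hx => ?_
  exact comm_iff.2 (mem_centralizer_iff.1 (hT hx) n hn).symm

theorem natFive : NatFive.{u} := fun _ _ _ hG S _ _ _ _ _ _ hl _ _ h4 =>
  (natFive_false hG.char2 S hl h4).elim

theorem ttCen : TTCen.{u} := fun _ _ _ hG S _ _ _ _ _ _ _ hl t1 t2 hC =>
  (ttCen_false hG.char2 S hl t1 t2 hC).elim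

/-! ### The leaf without N2 -/

open Cfsg.Agent.Omega.FrameMulti (LeafC) in
/-- **II.c** from `TTNon`, `NatBig`, `SymBig` : no node N2 at `m = 2`. -/
theorem leafC_of {K : Cls.{u}} (h3 : TTNon.{u}) (h4 : NatBig K) (h5 : SymBig K) : LeafC K := by
  intro G _ _ hG hcl S hF hI hT hW hSF P₁ P₂ x hm hF₁ hF₂ m hm2 hS hc
  obtain ⟨y, hp⟩ := exists_pos hG.char2 S hT hm
  rcases hc with hN | ⟨m', hm2', hS'⟩
  · obtain ⟨ε, hl⟩ := hp.lab hm2 hS hF₁
    have h4' := Nat.card_four S (three_le (by omega : 1 ≤ m)) hp.off₁ hp.off₂ hp.pair.star₂.le hp.ge hl.even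
      hl.side hN hF₂
    by_cases hm3 : m = 2
    · subst hm3
      exact (natFive_false hG.char2 S hl h4').elim
    · exact h4 G hG hcl S hF hI hT hW hSF P₁ P₂ y m ε (by omega) hl hN hF₂ h4'
  · obtain ⟨ε, ε₂, hl⟩ := hp.labTwo hm2 hm2' hS hF₁ hS' hF₂
    by_cases hbig : 3 ≤ m ∨ 3 ≤ m'
    · exact h5 G hG hcl S hF hI hT hW hSF P₁ P₂ y m m' ε ε₂ hm2 hm2' hbig hl
    · obtain rfl : m = 2 := by omega
      obtain rfl : m' = 2 := by omega
      obtain ⟨t1, t2⟩ := OfEven.index_le_two hG.char2 S hl.even hl.even₂ hp.pair.star₁.le hp.pair.star₂.le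
        (zc_le_zl _ _) (zc_le_zl _ _) (g := y) hp.pair.le₂ hp.pair.le₁
      by_cases hC : Cen (zl (S : Subgroup G) P₁) (cj y (zl (S : Subgroup G) P₂))
      · exact (ttCen_false hG.char2 S hl t1 t2 hC).elim
      · exact (h3 G hG S hF hI P₁ P₂ y ε ε₂ hl t1 t2 hC).elim

end Cfsg.Agent.Omega.NTwo.Zero

end
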